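import Mathlib.Data.Nat.Choose.Sum
import Mathlib.Data.Int.Basic
import Mathlib.Data.Nat.Factorial.Basic
import Mathlib.Tactic.Ring
import Mathlib.Tactic.Push
import Mathlib.Algebra.BigOperators.Intervals

namespace Groth.Agent.AltSumLib

open Finset

def S (n k : ℕ) : ℤ := ∑ j ∈ range (n + 1), (-1 : ℤ) ^ (n - j) * (n.choose j : ℤ) * (j : ℤ) ^ k

def f (n k : ℕ) : ℤ :=
  if k = n + 1 then (((n + 1).choose 2 * n.factorial : ℕ) : ℤ)
  else if k = n then (n.factorial : ℤ) else 0

theorem S_succ_succ (n k : ℕ) :
    S (n + 1) (k + 1) = (n + 1 : ℤ) * ∑ m ∈ range (k + 1), (k.choose m : ℤ) * S n m := by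
  unfold S
  rw [sum_range_succ']
  simp only [Nat.cast_zero, zero_pow (Nat.succ_ne_zero k), mul_zero, add_zero, mul_sum]
  rw [sum_comm]
  refine sum_congr rfl fun i _ => ?_
  have hc : ((n + 1).choose (i + 1) : ℤ) * ((i + 1 : ℕ) : ℤ) = (n + 1 : ℤ) * (n.choose i : ℤ) := by
    exact_mod_cast (Nat.add_one_mul_choose_eq n i).symm
  rw [Nat.add_sub_add_right, pow_succ]
  calc (-1 : ℤ) ^ (n - i) * ((n + 1).choose (i + 1) : ℤ) * (((i + 1 : ℕ) : ℤ) ^ k * ((i + 1 : ℕ) : ℤ))
      = (-1 : ℤ) ^ (n - i) * (((n + 1).choose (i + 1) : ℤ) * ((i + 1 : ℕ) : ℤ)) * ((i : ℤ) + 1) ^ k := by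
        push_cast; ring
    _ = _ := by
        rw [hc, add_pow, mul_sum]
        refine sum_congr rfl fun m _ => ?_
        simp only [one_pow, mul_one]
        ring

theorem S_eq : ∀ (n k : ℕ), k ≤ n + 1 → S n k = f n k := by
  intro n
  induction n with
  | zero =>
    intro k hk
    rcases (show k = 0 ∨ k = 1 by omega) with rfl | rfl <;> simp [S, f]
  | succ n ih =>
    intro k hk
    rcases k with _ | k
    · have h := Int.alternating_sum_range_choose (n := n + 1)
      rw [if_neg (Nat.succ_ne_zero n)] at h
      have hf : f (n + 1) 0 = 0 := by simp [f]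
      rw [hf]
      calc S (n + 1) 0 = (-1 : ℤ) ^ (n + 1) *
            ∑ j ∈ range (n + 1 + 1), (-1 : ℤ) ^ j * ((n + 1).choose j : ℤ) := by
            unfold S
            rw [mul_sum]
            refine sum_congr rfl fun j hj => ?_
            have hj' : j ≤ n + 1 := Nat.lt_succ_iff.mp (mem_range.mp hj)
            rw [pow_zero, mul_one, ← mul_assoc, ← pow_add,
              show n + 1 + j = (n + 1 - j) + 2 * j by omega, pow_add, pow_mul]
            norm_num
        _ = 0 := by rw [h, mul_zero]
    · rw [S_succ_succ, sum_congr rfl fun m hm =>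
        congrArg ((k.choose m : ℤ) * ·) (ih m ((Nat.lt_succ_iff.mp (mem_range.mp hm)).trans (by omega)))]
      rcases (show k < n ∨ k = n ∨ k = n + 1 by omega) with h | rfl | rfl
      · rw [sum_eq_zero fun m hm => ?_, mul_zero]
        · simp only [f]; rw [if_neg (by omega), if_neg (by omega)]
        · have := mem_range.mp hm
          simp only [f]; rw [if_neg (by omega), if_neg (by omega), mul_zero]
      · rw [sum_range_succ, sum_eq_zero fun m hm => ?_, zero_add]
        · simp [f, Nat.factorial_succ]
        · have := mem_range.mp hm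
          simp only [f]; rw [if_neg (by omega), if_neg (by omega), mul_zero]
      · rw [sum_range_succ, sum_range_succ, sum_eq_zero fun m hm => ?_, zero_add]
        · have h2 : (n + 1 + 1).choose 2 = (n + 1).choose 2 + (n + 1) := by
            rw [Nat.choose_succ_succ (n + 1) 1, Nat.choose_one_right]; ring
          simp only [f]
          rw [if_neg (by omega), if_pos trivial, if_pos trivial, if_pos trivial,
            Nat.choose_succ_self_right, Nat.choose_self, h2, Nat.factorial_succ]
          push_cast; ring
        · have := mem_range.mp hm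
          simp only [f]; rw [if_neg (by omega), if_neg (by omega), mul_zero]

end Groth.Agent.AltSumLib
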